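import Groth.Prelude.Def_W4c2seshadriposJets
import Groth.Agent.Lib.HdgLef1.Decomp
import Groth.Agent.Lib.NumPoly18.HodgeIndex
import Groth.Agent.Lib.CurveCoh17.Twist
import Groth.Agent.Lib.SheafVan16.Vanish
import Groth.Agent.Lib.CohFound.DevissageModel
import Groth.Agent.Lib.CohFound.SerreVan
import Groth.Agent.S0051

/-!
# Cohomology of twisted powers of the ideal of a point
-/

set_option autoImplicit false
set_option linter.style.haveILetI false
set_option linter.unusedSectionVars false
set_option backward.isDefEq.respectTransparency false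
set_option backward.isDefEq.respectTransparency.types false
set_option maxHeartbeats 800000

universe u

open CategoryTheory CategoryTheory.Limits AlgebraicGeometry TopologicalSpace

noncomputable section

namespace Groth.Agent.IdealPowVan13

open Groth.Agent W4c2seshadripos

variable {X : Scheme.{u}} (x : X) (hx : IsClosed ({x} : Set X))

theorem pow_succ_le (I : X.IdealSheafData) (a : ℕ) : I ^ (a + 1) ≤ I ^ a :=
  Scheme.IdealSheafData.le_def.2 fun U => by
    simp only [Scheme.IdealSheafData.ideal_pow, Pi.pow_apply, pow_succ]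
    exact Ideal.mul_le_left

/-- The quotient by a power of the ideal of a point is supported at the point. -/
theorem support_quotMod (a : ℕ) : CohB1.support (ClSub.quotMod ((pointIdeal x hx) ^ a)) ⊆ {x} := by
  refine (CohFound.support_push_subset _ _).trans ?_
  rw [Scheme.IdealSheafData.range_subschemeι]
  cases a with
  | zero => intro y hy; simp [pow_zero] at hy
  | succ a =>
    rw [Scheme.IdealSheafData.support_pow_succ, pointIdeal, Scheme.IdealSheafData.coe_support_vanishingIdeal]
    exact subset_rfl

/-- Off the point the inclusion of a power is bijective on stalks. -/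
theorem bijective_stalk_ι (a : ℕ) (y : X) (hy : y ≠ x) :
    Function.Bijective ((KFlat.Sch.stF y).map (ClSub.idealModι ((pointIdeal x hx) ^ a))).hom := by
  have h := DPerf.shortExact_stF (M2.shortExact_idealMod ((pointIdeal x hx) ^ a)) y
  haveI : Subsingleton ((ClSub.quotMod ((pointIdeal x hx) ^ a)).presheaf.stalk y) := by
    by_contra hs
    exact hy (support_quotMod x hx a hs)
  refine ⟨h.moduleCat_injective_f, fun z => ?_⟩
  exact ((ShortComplex.ShortExact.moduleCat_exact_iff_function_exact _).1 h.exact z).1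
    (Subsingleton.elim (α := (ClSub.quotMod ((pointIdeal x hx) ^ a)).presheaf.stalk y) _ _)

/-- The inclusion of consecutive powers has cokernel supported at the point. -/
theorem support_coker (a : ℕ) :
    CohB1.support (cokernel (HdgLef1.idealMap (pow_succ_le (pointIdeal x hx) a))) ⊆ {x} := by
  intro y hy
  by_contra hne
  apply hy
  let φ := HdgLef1.idealMap (pow_succ_le (pointIdeal x hx) a)
  have hφ : φ ≫ ClSub.idealModι ((pointIdeal x hx) ^ a) = ClSub.idealModι ((pointIdeal x hx) ^ (a + 1)) :=
    kernel.lift_ι _ _ _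
  have h1 := bijective_stalk_ι x hx (a + 1) y hne
  rw [← hφ, Functor.map_comp, ModuleCat.hom_comp, LinearMap.coe_comp] at h1
  have hs : Function.Surjective ((KFlat.Sch.stF y).map φ).hom :=
    ((bijective_stalk_ι x hx a y hne).of_comp_iff' _).1 h1 |>.2
  have he := (M1.epi_iff_stalk (cokernel.π φ)).1 inferInstance y
  refine ⟨fun s t => ?_⟩
  have key : ∀ s : ((cokernel φ).presheaf.stalk y : Type u), s = 0 := fun s => by
    obtain ⟨u, rfl⟩ := he s
    obtain ⟨v, rfl⟩ := hs u
    have : (KFlat.Sch.stF y).map φ ≫ (KFlat.Sch.stF y).map (cokernel.π φ) = 0 := by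
      rw [← Functor.map_comp, cokernel.condition, Functor.map_zero]
    exact congrArg (fun g : (KFlat.Sch.stF y).obj _ ⟶ (KFlat.Sch.stF y).obj (cokernel φ) => g.hom v) this
  rw [key s, key t]

theorem dim_le_zero {S : Set X} (h : S ⊆ {x}) : topologicalKrullDim S ≤ ((0 : ℕ) : WithBot ℕ∞) := by
  haveI : Subsingleton S := ⟨fun a b => Subtype.ext ((h a.2).trans (h b.2).symm)⟩
  haveI : Subsingleton (IrreducibleCloseds S) := ⟨fun A B => IrreducibleCloseds.ext (by
    obtain ⟨a, ha⟩ := A.isIrreducible'.nonempty
    obtain ⟨b, hb⟩ := B.isIrreducible'.nonempty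
    ext z
    exact ⟨fun _ => (Subsingleton.elim z b) ▸ hb, fun _ => (Subsingleton.elim z a) ▸ ha⟩)⟩
  rw [Nat.cast_zero]
  exact Order.krullDim_nonpos_of_subsingleton

variable (k : Type u) [Field k] [X.Over (Spec (CommRingCat.of k))] [IsProper (X ↘ Spec (CommRingCat.of k))]
  {W : X.Modules} (hW : PicF.IsInvertible W)

include k hW in
/-- Twists of modules supported at the point have no higher cohomology. -/
theorem subsingleton_twist_pt {Q : X.Modules} (hQ : Coh.IsCoh Q) (hs : CohB1.support Q ⊆ {x}) {i : ℕ} (hi : 0 < i) :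
    Subsingleton (Coh.HH X (CohB1.tensorMod Q W) i) := by
  haveI : IsNoetherian X := CohFound.isNoetherian_of_isProper (X ↘ (Spec (CommRingCat.of k)))
  exact NumPoly18.subsingleton_HH_of_support (k := k) (CurveCoh17.isCoh_tensor hQ (Snapper.isCoh_of_isInvertible hW))
    (dim_le_zero x ((Snapper.support_tensor_subset Q W).trans hs)) hi

include k hW in
/-- Twisted powers have the higher cohomology of the module in degree at least two. -/
theorem subsingleton_twist_pow {i : ℕ} (hi : 1 < i) (a : ℕ)
    (h : Subsingleton (Coh.HH X (CohB1.tensorMod (Coh.structureModule X) W) i)) :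
    Subsingleton (Coh.HH X (CohB1.tensorMod (ClSub.idealMod ((pointIdeal x hx) ^ a)) W) i) := by
  haveI : IsNoetherian X := CohFound.isNoetherian_of_isProper (X ↘ (Spec (CommRingCat.of k)))
  have hT := CohFound.shortExact_tensor_invertible (M2.shortExact_idealMod ((pointIdeal x hx) ^ a)) hW
  obtain ⟨j, rfl⟩ : ∃ j, i = j + 1 := ⟨i - 1, by omega⟩
  have hQ := subsingleton_twist_pt (Q := ClSub.quotMod ((pointIdeal x hx) ^ a)) x k hW
    (CurveCoh17.isCoh_quotMod _) (support_quotMod x hx a) (i := j) (by omega)
  rw [CohFound.subsingleton_HH_iff] at h hQ ⊢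
  exact SheafVan16.van_X₁ (CohFound.shortExact_abF hT) ⊤ j h hQ

include k hW in
/-- Vanishing of the first cohomology descends along powers. -/
theorem subsingleton_twist_pow_pred (a : ℕ)
    (h : Subsingleton (Coh.HH X (CohB1.tensorMod (ClSub.idealMod ((pointIdeal x hx) ^ (a + 1))) W) 1)) :
    Subsingleton (Coh.HH X (CohB1.tensorMod (ClSub.idealMod ((pointIdeal x hx) ^ a)) W) 1) := by
  haveI : IsNoetherian X := CohFound.isNoetherian_of_isProper (X ↘ (Spec (CommRingCat.of k)))
  let φ := HdgLef1.idealMap (pow_succ_le (pointIdeal x hx) a)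
  have hφ : φ ≫ ClSub.idealModι ((pointIdeal x hx) ^ a) = ClSub.idealModι ((pointIdeal x hx) ^ (a + 1)) :=
    kernel.lift_ι _ _ _
  haveI : Mono (φ ≫ ClSub.idealModι ((pointIdeal x hx) ^ a)) := by
    rw [hφ]; exact (M2.shortExact_idealMod _).mono_f
  haveI : Mono φ := mono_of_mono φ (ClSub.idealModι ((pointIdeal x hx) ^ a))
  have hS : (ShortComplex.mk φ (cokernel.π φ) (cokernel.condition φ)).ShortExact :=
    { exact := ShortComplex.exact_cokernel φ }
  have hT := CohFound.shortExact_tensor_invertible hS hW
  have hcQ : Coh.IsCoh (cokernel φ) :=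
    M1.isCoh_cokernel (M2.isQCoh_idealMod _) (CurveCoh17.isCoh_idealMod _) φ
  have hQ := subsingleton_twist_pt (Q := cokernel φ) x k hW hcQ (support_coker x hx a) (i := 1) one_pos
  rw [CohFound.subsingleton_HH_iff] at h hQ ⊢
  exact SheafVan16.van_X₂ (CohFound.shortExact_abF hT) ⊤ 1 h hQ

end Groth.Agent.IdealPowVan13
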